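import Groth.Prelude.Def_Wider
import Groth.Agent.InjHullLib.Local
import Groth.Agent.DualCxLib.FinLen

/-!
# Linear self equivalences of finite length modules
-/

set_option autoImplicit false
set_option linter.all false
set_option maxHeartbeats 1000000

universe u

open CategoryTheory
open Groth.Agent

noncomputable section

namespace FinLenEquivLib

variable {A : Type u} [CommRing A] [IsLocalRing A] [IsNoetherianRing A]

local notation "𝔪" => IsLocalRing.maximalIdeal A

theorem smul_mk_one (J : Ideal A) (r : A) :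
    r • (Submodule.Quotient.mk (1 : A) : A ⧸ J) = Submodule.Quotient.mk r := by
  rw [← Submodule.Quotient.mk_smul, smul_eq_mul, mul_one]

theorem isFiniteLength_residue : IsFiniteLength A (A ⧸ 𝔪) :=
  (Submodule.quotEquivOfEq _ _ (pow_one 𝔪)).isFiniteLength (InjHullLib.isFiniteLength_quotient_pow (m := 𝔪) 1)

variable (A) in
/-- The residue field. -/
def K : Dual.FinLen A :=
  ⟨ModuleCat.of A (A ⧸ 𝔪), isFiniteLength_residue⟩

variable (A) in
/-- The quotients by powers of the maximal ideal. -/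
def Q (n : ℕ) : Dual.FinLen A :=
  ⟨ModuleCat.of A (A ⧸ 𝔪 ^ (n + 1)), InjHullLib.isFiniteLength_quotient_pow (m := 𝔪) (n + 1)⟩

/-- The map out of `Q n` given by a killed element. -/
def φ {M : Dual.FinLen A} (n : ℕ) (x : M.obj) (hx : ∀ r ∈ 𝔪 ^ (n + 1), r • x = 0) : Q A n ⟶ M :=
  ObjectProperty.homMk (ModuleCat.ofHom (Submodule.liftQ (𝔪 ^ (n + 1)) (LinearMap.toSpanSingleton A M.obj x) hx))

theorem φ_mk {M : Dual.FinLen A} (n : ℕ) (x : M.obj) (hx : ∀ r ∈ 𝔪 ^ (n + 1), r • x = 0) (r : A) :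
    (φ n x hx).hom (Submodule.Quotient.mk r) = r • x := rfl

theorem hom_ext_Q {M : Dual.FinLen A} {n : ℕ} {f g : Q A n ⟶ M}
    (h : f.hom (Submodule.Quotient.mk (1 : A)) = g.hom (Submodule.Quotient.mk (1 : A))) : f = g := by
  refine ObjectProperty.hom_ext _ (ModuleCat.hom_ext (Submodule.linearMap_qext _ (LinearMap.ext_ring ?_)))
  exact h

theorem hom_ext_iff' {M N : Dual.FinLen A} (f : M ⟶ N) : f = 0 ↔ ∀ x : M.obj, f.hom x = 0 := by
  refine ⟨fun h x => ?_, fun h => ObjectProperty.hom_ext _ (ModuleCat.hom_ext (LinearMap.ext h))⟩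
  rw [h]
  rfl

variable (A) in
/-- The projection. -/
def π (n : ℕ) : Q A (n + 1) ⟶ Q A n :=
  φ (n + 1) (Submodule.Quotient.mk (1 : A)) fun r hr => by
    exact (smul_mk_one _ r).trans ((Submodule.Quotient.mk_eq_zero _).2 (Ideal.pow_le_pow_right (Nat.le_succ _) hr))

variable (A) in
/-- The map to the residue field. -/
def p (n : ℕ) : Q A n ⟶ K A :=
  φ n (show (K A).obj from Submodule.Quotient.mk (1 : A)) fun r hr => by
    show r • (Submodule.Quotient.mk (1 : A) : A ⧸ 𝔪) = 0
    rw [← Submodule.Quotient.mk_smul]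
    exact (Submodule.Quotient.mk_eq_zero _).2 (by
      rw [smul_eq_mul, mul_one]; exact Ideal.pow_le_self (Nat.succ_ne_zero n) hr)

theorem π_p (n : ℕ) : π A n ≫ p A n = p A (n + 1) := hom_ext_Q (by
  show (p A n).hom ((π A n).hom (Submodule.Quotient.mk (1 : A))) = _
  rw [π, p, p, φ_mk, one_smul, φ_mk, φ_mk])

variable (F : Dual.FinLen A ≌ Dual.FinLen A) [F.functor.Additive] [F.functor.Linear A]

theorem killed {M : Dual.FinLen A} {r : A} (h : ∀ x : M.obj, r • x = 0) (y : (F.functor.obj M).obj) : r • y = 0 := by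
  have h0 : r • 𝟙 M = 0 := (hom_ext_iff' _).2 h
  have h1 : r • 𝟙 (F.functor.obj M) = 0 := by
    rw [← CategoryTheory.Functor.map_id, ← Functor.map_smul, h0, Functor.map_zero]
  exact (hom_ext_iff' _).1 h1 y

theorem killed_rev {M : Dual.FinLen A} {r : A} (h : ∀ y : (F.functor.obj M).obj, r • y = 0) (x : M.obj) : r • x = 0 := by
  have h1 : r • 𝟙 (F.functor.obj M) = 0 := (hom_ext_iff' _).2 h
  have h0 : r • 𝟙 M = 0 := F.functor.map_injective (by
    rw [Functor.map_smul, CategoryTheory.Functor.map_id, h1, Functor.map_zero])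
  exact (hom_ext_iff' _).1 h0 x

theorem killed_K {r : A} (hr : r ∈ 𝔪) (x : (K A).obj) : r • x = 0 := by
  obtain ⟨y, rfl⟩ := Submodule.Quotient.mk_surjective 𝔪 x
  exact (Submodule.Quotient.mk_eq_zero _).2 (Ideal.mul_mem_right y _ hr)

/-- Functionals to the residue field detect the elements modulo a submodule containing `𝔪`. -/
theorem exists_functional {M : Type u} [AddCommGroup M] [Module A M] (W : Submodule A M)
    (hW : ∀ r ∈ 𝔪, ∀ x : M, r • x ∈ W) {z : M} (hz : z ∉ W) :
    ∃ ψ : M →ₗ[A] (A ⧸ 𝔪), (∀ w ∈ W, ψ w = 0) ∧ ψ z ≠ 0 := by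
  letI := Ideal.Quotient.field 𝔪
  letI : Module (A ⧸ 𝔪) (M ⧸ W) := Module.IsTorsionBySet.module (I := 𝔪) fun x r => by
    obtain ⟨y, rfl⟩ := Submodule.Quotient.mk_surjective W x
    exact (Submodule.Quotient.mk_eq_zero W).2 (hW r r.2 y)
  haveI : IsScalarTower A (A ⧸ 𝔪) (M ⧸ W) := IsScalarTower.of_algebraMap_smul fun _ _ => rfl
  have hz' : (Submodule.Quotient.mk z : M ⧸ W) ≠ 0 := fun h => hz ((Submodule.Quotient.mk_eq_zero W).1 h)
  obtain ⟨f, hf⟩ : ∃ f : Module.Dual (A ⧸ 𝔪) (M ⧸ W), f (Submodule.Quotient.mk z) ≠ 0 := by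
    by_contra h
    push_neg at h
    exact hz' ((Module.forall_dual_apply_eq_zero_iff (A ⧸ 𝔪) _).1 h)
  exact ⟨(f.restrictScalars A).comp W.mkQ, fun w hw => by
    show f (Submodule.Quotient.mk w) = 0
    rw [(Submodule.Quotient.mk_eq_zero W).2 hw, map_zero], hf⟩

theorem exists_iso_K : Nonempty (F.functor.obj (K A) ≅ K A) := by
  have hkill : ∀ r ∈ 𝔪, ∀ x : (F.functor.obj (K A)).obj, r • x = 0 := fun r hr => killed F (killed_K hr)
  obtain ⟨x, hx⟩ : ∃ x : (F.functor.obj (K A)).obj, x ≠ 0 := by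
    by_contra h
    push_neg at h
    have := killed_rev F (M := K A) (r := 1) (fun y => by rw [one_smul]; exact h y)
      (show (K A).obj from Submodule.Quotient.mk (1 : A))
    rw [one_smul] at this
    exact (IsLocalRing.maximalIdeal.isMaximal A).ne_top
      ((Ideal.eq_top_iff_one _).2 ((Submodule.Quotient.mk_eq_zero _).1 this))
  let ι : (A ⧸ 𝔪) →ₗ[A] (F.functor.obj (K A)).obj :=
    Submodule.liftQ 𝔪 (LinearMap.toSpanSingleton A _ x) fun r hr => hkill r hr x
  obtain ⟨ψ, -, hψ⟩ := exists_functional (⊥ : Submodule A (F.functor.obj (K A)).obj)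
    (fun r hr y => by rw [hkill r hr y]; exact zero_mem _) (z := x) (by simpa using hx)
  let en : F.functor.obj (K A) ⟶ F.functor.obj (K A) := ObjectProperty.homMk (ModuleCat.ofHom (ι.comp ψ))
  obtain ⟨g, hg⟩ := F.functor.map_surjective en
  obtain ⟨c, hc⟩ := Submodule.Quotient.mk_surjective 𝔪 (g.hom (show (K A).obj from Submodule.Quotient.mk (1 : A)))
  have hgc : g = c • 𝟙 (K A) := by
    refine ObjectProperty.hom_ext _ (ModuleCat.hom_ext (Submodule.linearMap_qext _ (LinearMap.ext_ring ?_)))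
    show g.hom (show (K A).obj from Submodule.Quotient.mk (1 : A)) = c • (show (K A).obj from Submodule.Quotient.mk (1 : A))
    rw [← hc]
    exact (smul_mk_one 𝔪 c).symm
  have hen : ∀ y, ι (ψ y) = c • y := fun y => by
    have : en = c • 𝟙 _ := by rw [← hg, hgc, Functor.map_smul, CategoryTheory.Functor.map_id]
    exact congrArg (fun e => e.hom y) this
  have hι : Function.Injective ι := (injective_iff_map_eq_zero ι).2 fun q hq => by
    obtain ⟨r, rfl⟩ := Submodule.Quotient.mk_surjective _ q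
    refine (Submodule.Quotient.mk_eq_zero _).2 fun hr => hx ?_
    exact (IsUnit.smul_eq_zero hr).1 hq
  have hcu : IsUnit c := by
    by_contra hcu
    exact hψ (hι ((hen x).trans ((hkill c hcu x).trans (map_zero ι).symm)))
  have hsurj : Function.Surjective ι := fun y => by
    obtain ⟨d, hd⟩ := hcu.exists_left_inv
    exact ⟨d • ψ y, by rw [map_smul, hen, smul_smul, hd, one_smul]⟩
  exact ⟨(ObjectProperty.isoMk _ (LinearEquiv.ofBijective ι ⟨hι, hsurj⟩).toModuleIso).symm⟩

/-- The functional on the image of `Q n`. -/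
def ρ (e : F.functor.obj (K A) ≅ K A) (n : ℕ) : F.functor.obj (Q A n) ⟶ K A := F.functor.map (p A n) ≫ e.hom

theorem span_eq_top (e : F.functor.obj (K A) ≅ K A) (n : ℕ) (g : (F.functor.obj (Q A n)).obj)
    (hg : (ρ F e n).hom g ≠ 0) : Submodule.span A {g} = ⊤ := by
  have hfg : (⊤ : Submodule A (F.functor.obj (Q A n)).obj).FG := by
    haveI := (isFiniteLength_iff_isNoetherian_isArtinian.1 (F.functor.obj (Q A n)).property).1
    exact IsNoetherian.noetherian _
  refine top_le_iff.1 (Submodule.le_of_le_smul_of_le_jacobson_bot hfg (IsLocalRing.maximalIdeal_le_jacobson ⊥) ?_)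
  intro z _
  by_contra hz
  obtain ⟨ψ, hψ, hψz⟩ := exists_functional (Submodule.span A {g} ⊔ 𝔪 • ⊤)
    (fun r hr y => Submodule.mem_sup_right (Submodule.smul_mem_smul hr Submodule.mem_top)) hz
  let ψ' : F.functor.obj (Q A n) ⟶ K A := ObjectProperty.homMk (ModuleCat.ofHom ψ)
  obtain ⟨f, hf⟩ := F.functor.map_surjective (ψ' ≫ e.inv)
  obtain ⟨c, hc⟩ := Submodule.Quotient.mk_surjective 𝔪 (f.hom (Submodule.Quotient.mk (1 : A)))
  have hfc : f = c • p A n := hom_ext_Q (by
    show f.hom (Submodule.Quotient.mk (1 : A)) = c • (p A n).hom (Submodule.Quotient.mk (1 : A))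
    rw [← hc, p, φ_mk, one_smul]
    exact (smul_mk_one 𝔪 c).symm)
  have hψρ : ψ' = c • ρ F e n := by
    rw [ρ, ← Linear.smul_comp, ← Functor.map_smul, ← hfc, hf, Category.assoc, e.inv_hom_id, Category.comp_id]
  have h1 : c • (ρ F e n).hom g = 0 := (congrArg (fun t => t.hom g) hψρ).symm.trans
    (hψ g (Submodule.mem_sup_left (Submodule.mem_span_singleton_self g)))
  by_cases hcm : c ∈ 𝔪
  · exact hψz ((congrArg (fun t => t.hom z) hψρ).trans (killed_K hcm _))
  · exact hg ((IsUnit.smul_eq_zero (IsLocalRing.notMem_maximalIdeal.1 hcm)).1 h1)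

theorem exists_lift (e : F.functor.obj (K A) ≅ K A) (n : ℕ) (g : (F.functor.obj (Q A n)).obj) :
    ∃ g', (F.functor.map (π A n)).hom g' = g := by
  obtain ⟨z, hz⟩ : ∃ z, (ρ F e (n + 1)).hom z ≠ 0 := by
    by_contra h
    push_neg at h
    have h0 : ρ F e (n + 1) = 0 := (hom_ext_iff' _).2 h
    rw [ρ, ← cancel_mono e.inv, Category.assoc, e.hom_inv_id, Category.comp_id, Limits.zero_comp] at h0
    have := (hom_ext_iff' _).1 (F.functor.map_eq_zero_iff.1 h0) (Submodule.Quotient.mk (1 : A))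
    rw [p, φ_mk, one_smul] at this
    exact (IsLocalRing.maximalIdeal.isMaximal A).ne_top
      ((Ideal.eq_top_iff_one _).2 ((Submodule.Quotient.mk_eq_zero _).1 this))
  have hρ : (ρ F e n).hom ((F.functor.map (π A n)).hom z) ≠ 0 := by
    have : F.functor.map (π A n) ≫ ρ F e n = ρ F e (n + 1) := by
      rw [ρ, ρ, ← Category.assoc, ← Functor.map_comp, π_p]
    rwa [← this] at hz
  obtain ⟨r, hr⟩ := Submodule.mem_span_singleton.1 ((span_eq_top F e n _ hρ).ge (Submodule.mem_top (x := g)))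
  exact ⟨r • z, (map_smul (F.functor.map (π A n)).hom.hom r z).trans hr⟩

theorem exists_system : ∃ g : ∀ n, (F.functor.obj (Q A n)).obj,
    (∀ n, (F.functor.map (π A n)).hom (g (n + 1)) = g n) ∧ ∀ n, Submodule.span A {g n} = ⊤ := by
  obtain ⟨e⟩ := exists_iso_K F
  obtain ⟨g₀, hg₀⟩ : ∃ z, (ρ F e 0).hom z ≠ 0 := by
    by_contra h
    push_neg at h
    have h0 : ρ F e 0 = 0 := (hom_ext_iff' _).2 h
    rw [ρ, ← cancel_mono e.inv, Category.assoc, e.hom_inv_id, Category.comp_id, Limits.zero_comp] at h0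
    have := (hom_ext_iff' _).1 (F.functor.map_eq_zero_iff.1 h0) (Submodule.Quotient.mk (1 : A))
    rw [p, φ_mk, one_smul] at this
    exact (IsLocalRing.maximalIdeal.isMaximal A).ne_top
      ((Ideal.eq_top_iff_one _).2 ((Submodule.Quotient.mk_eq_zero _).1 this))
  choose L hL using exists_lift F e
  let g : ∀ n, (F.functor.obj (Q A n)).obj := fun n => Nat.rec (motive := fun n => (F.functor.obj (Q A n)).obj) g₀ (fun n x => L n x) n
  have hg : ∀ n, (ρ F e n).hom (g n) ≠ 0 := fun n => by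
    induction n with
    | zero => exact hg₀
    | succ n ih =>
      have : F.functor.map (π A n) ≫ ρ F e n = ρ F e (n + 1) := by
        rw [ρ, ρ, ← Category.assoc, ← Functor.map_comp, π_p]
      rw [← this]
      show (ρ F e n).hom ((F.functor.map (π A n)).hom (L n (g n))) ≠ 0
      rwa [hL]
  exact ⟨g, fun n => hL n (g n), fun n => span_eq_top F e n _ (hg n)⟩

/-- A power killing a module. -/
theorem exists_kill (M : Dual.FinLen A) : ∃ n : ℕ, ∀ x : M.obj, ∀ r ∈ 𝔪 ^ (n + 1), r • x = 0 := by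
  obtain ⟨k, hk⟩ := DualCxLib.exists_pow_kill M.obj M.property
  exact ⟨k, fun x r hr => hk r (Ideal.pow_le_pow_right (Nat.le_succ k) hr) x⟩

theorem main : Nonempty (F.functor ≅ 𝟭 (Dual.FinLen A)) := by
  obtain ⟨g, hg, hgen⟩ := exists_system F
  choose N hN using exists_kill (A := A)
  let η : ∀ (M : Dual.FinLen A), M.obj →ₗ[A] (F.functor.obj M).obj := fun M =>
    { toFun := fun x => (F.functor.map (φ (N M) x (hN M x))).hom (g (N M))
      map_add' := fun x y => by
        rw [show φ (N M) (x + y) (hN M _) = φ (N M) x (hN M x) + φ (N M) y (hN M y) from hom_ext_Q (by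
          show _ = (φ (N M) x _).hom (Submodule.Quotient.mk (1 : A)) + (φ (N M) y _).hom (Submodule.Quotient.mk (1 : A))
          rw [φ_mk, φ_mk, φ_mk, one_smul, one_smul, one_smul]), Functor.map_add]
        rfl
      map_smul' := fun r x => by
        rw [show φ (N M) (r • x) (hN M _) = r • φ (N M) x (hN M x) from hom_ext_Q (by
          show _ = r • (φ (N M) x _).hom (Submodule.Quotient.mk (1 : A))
          rw [φ_mk, φ_mk, one_smul, one_smul]), Functor.map_smul]
        rfl }
  have step : ∀ {M : Dual.FinLen A} (d n : ℕ) (x : M.obj) (h : ∀ r ∈ 𝔪 ^ (n + 1), r • x = 0)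
      (h' : ∀ r ∈ 𝔪 ^ (n + d + 1), r • x = 0),
      (F.functor.map (φ (n + d) x h')).hom (g (n + d)) = (F.functor.map (φ n x h)).hom (g n) := by
    intro M d
    induction d with
    | zero => intro n x h h'; rfl
    | succ d ih =>
      intro n x h h'
      have h'' : ∀ r ∈ 𝔪 ^ (n + d + 1), r • x = 0 := fun r hr => h r (Ideal.pow_le_pow_right (by omega) hr)
      rw [← ih n x h h'', show φ (n + (d + 1)) x h' = π A (n + d) ≫ φ (n + d) x h'' from hom_ext_Q (by
        show _ = (φ (n + d) x h'').hom ((π A (n + d)).hom (Submodule.Quotient.mk (1 : A)))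
        rw [π, φ_mk, φ_mk]
        exact ((φ_mk _ x h'' 1).symm.trans (congrArg (φ (n + d) x h'').hom (one_smul A _).symm))),
        Functor.map_comp]
      exact congrArg (F.functor.map (φ (n + d) x h'')).hom (hg (n + d))
  have indep : ∀ {M : Dual.FinLen A} (n : ℕ) (x : M.obj) (h : ∀ r ∈ 𝔪 ^ (n + 1), r • x = 0),
      η M x = (F.functor.map (φ n x h)).hom (g n) := fun {M} n x h => by
    have hm : ∀ r ∈ 𝔪 ^ (N M + n + 1), r • x = 0 := fun r hr => h r (Ideal.pow_le_pow_right (by omega) hr)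
    have hm' : ∀ r ∈ 𝔪 ^ (n + N M + 1), r • x = 0 := fun r hr => h r (Ideal.pow_le_pow_right (by omega) hr)
    have cast : ∀ (a b : ℕ) (e : a = b) (ha : ∀ r ∈ 𝔪 ^ (a + 1), r • x = 0) (hb : ∀ r ∈ 𝔪 ^ (b + 1), r • x = 0),
        (F.functor.map (φ a x ha)).hom (g a) = (F.functor.map (φ b x hb)).hom (g b) := by
      rintro a _ rfl ha hb
      rfl
    exact ((step n (N M) x (hN M x) hm).symm.trans (cast _ _ (Nat.add_comm _ _) hm hm')).trans (step (N M) n x h hm')
  have nat : ∀ {M M' : Dual.FinLen A} (f : M ⟶ M') (x : M.obj),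
      η M' (f.hom x) = (F.functor.map f).hom (η M x) := fun {M M'} f x => by
    have h : ∀ r ∈ 𝔪 ^ (N M + 1), r • f.hom x = 0 := fun r hr => by
      rw [← map_smul, hN M x r hr, map_zero]
    rw [indep (N M) (f.hom x) h, show φ (N M) (f.hom x) h = φ (N M) x (hN M x) ≫ f from hom_ext_Q (by
      show _ = f.hom ((φ (N M) x _).hom (Submodule.Quotient.mk (1 : A)))
      rw [φ_mk, φ_mk, one_smul, one_smul]), Functor.map_comp]
    rfl
  have bij : ∀ M, Function.Bijective (η M) := fun M => by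
    refine ⟨(injective_iff_map_eq_zero _).2 fun x hx => ?_, fun y => ?_⟩
    · have h0 : F.functor.map (φ (N M) x (hN M x)) = 0 := (hom_ext_iff' _).2 fun z => by
        obtain ⟨r, rfl⟩ := Submodule.mem_span_singleton.1 ((hgen (N M)).ge (Submodule.mem_top (x := z)))
        rw [map_smul]
        exact (congrArg (r • ·) hx).trans (smul_zero r)
      have := (hom_ext_iff' _).1 (F.functor.map_eq_zero_iff.1 h0) (Submodule.Quotient.mk (1 : A))
      rwa [φ_mk, one_smul] at this
    · let n := N M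
      have hk : ∀ r ∈ 𝔪 ^ (n + 1), r • y = 0 := fun r hr => killed F (fun x => hN M x r hr) y
      let σ : A →ₗ[A] (F.functor.obj (Q A n)).obj := LinearMap.toSpanSingleton A _ (g n)
      have hσ : Function.Surjective σ := fun z => Submodule.mem_span_singleton.1 ((hgen n).ge (Submodule.mem_top (x := z)))
      have hker : LinearMap.ker σ ≤ LinearMap.ker (LinearMap.toSpanSingleton A (F.functor.obj M).obj y) := fun r hr => by
        refine hk r ((Submodule.Quotient.mk_eq_zero _).1 ?_)
        have := killed_rev F (M := Q A n) (r := r) (fun z => by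
          obtain ⟨s, rfl⟩ := hσ z
          show r • s • g n = 0
          rw [smul_comm, show r • g n = 0 from hr, smul_zero]) (Submodule.Quotient.mk (1 : A))
        refine Eq.trans ?_ this
        exact (smul_mk_one (𝔪 ^ (n + 1)) r).symm
      let ψ : F.functor.obj (Q A n) ⟶ F.functor.obj M := ObjectProperty.homMk (ModuleCat.ofHom
        (((LinearMap.ker σ).liftQ _ hker).comp (σ.quotKerEquivOfSurjective hσ).symm.toLinearMap))
      obtain ⟨f, hf⟩ := F.functor.map_surjective ψ
      refine ⟨f.hom (Submodule.Quotient.mk (1 : A)), ?_⟩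
      have hψg : ψ.hom (g n) = y := by
        have hσ1 : σ 1 = g n := one_smul A (g n)
        show ((LinearMap.ker σ).liftQ _ hker) ((σ.quotKerEquivOfSurjective hσ).symm (g n)) = y
        rw [← hσ1, LinearMap.quotKerEquivOfSurjective_symm_apply]
        exact one_smul A y
      rw [indep n (f.hom (Submodule.Quotient.mk (1 : A))) (hN M _),
        show φ n (f.hom (Submodule.Quotient.mk (1 : A))) (hN M _) = f from hom_ext_Q (by rw [φ_mk, one_smul]), hf, hψg]
  exact ⟨(NatIso.ofComponents (fun M => ObjectProperty.isoMk _ (LinearEquiv.ofBijective (η M) (bij M)).toModuleIso)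
    (fun {M M'} f => ObjectProperty.hom_ext _ (ModuleCat.hom_ext (LinearMap.ext fun x => nat f x)))).symm⟩

end FinLenEquivLib
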